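import Cfsg.Agent.Lib.helper7.SAP.Defs

/-!
# Project SA3 (S2285): `S_n` and `A_n` on 3 generators and at most 7 relators — definitions

Designer: helper20.  This is project SAP (designer helper7, `Cfsg/Agent/Lib/helper7/SAP/`) with ONE
relator saved: the two relators `a^p` and `g^(3m)` of `relsCommon` are merged into the single relator
`a^p * (g^(3m))⁻¹`.  Paper proof and row list: `Cfsg/Agent/Lib/Helper20/SA3/Skel.lean.txt`.
-/

namespace Cfsg.Agent.Lib.helper7.SAP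

/-- The five merged common relators (`m = l + k`, `Z = wG ^ ez`, `T = wG ^ et`, `rv` an EVEN
representative of the generator `r`, `Bw`, `Nw` words for `β`, `ν`):
`a^p g^-(3m)`, `(z · a z a⁻¹)^2`, `β a β⁻¹ a^-rv`, `β z β⁻¹ z`, the gluing commutator.
Compare `relsCommon` (six relators). -/
def sa3_relsMerged (p l k ez et rv : ℕ) (Bw Nw : FreeGroup (Fin 2)) : List (FreeGroup (Fin 2)) :=
  [ wA ^ p * (wG ^ (3 * (l + k)))⁻¹,
    (wG ^ ez * (wA * wG ^ ez * wA⁻¹)) ^ 2,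
    Bw * wA * Bw⁻¹ * (wA ^ rv)⁻¹,
    Bw * wG ^ ez * Bw⁻¹ * wG ^ ez,
    ((Nw⁻¹ * wG ^ et) * (wA ^ l * Bw * (wA ^ l)⁻¹)) *
      ((wA ^ l * Bw * (wA ^ l)⁻¹) * (Nw⁻¹ * wG ^ et))⁻¹ ]

end Cfsg.Agent.Lib.helper7.SAP
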